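import Cfsg.Agent.Lib.Comp.Fast

set_option maxRecDepth 100000
set_option Elab.async false

namespace Cfsg.Lib.Comp.HdLc

universe u

def iv : ℕ → ℕ := (fun x => look (nat_lit 0xffef7cefae78df6d74cf2c70beeb6caeaa689e69648e28607de75c6da6585d65544d24503cd38c2ca2481c61440c2040) 6 x)

noncomputable def R : List (List ℕ × ℕ) := (apd [([3],1),
 ([4],1),
 ([5],1),
 ([7],1),
 ([8],1),
 ([10],1),
 ([12],1),
 ([3,4,3,4,7],0),
 ([3,5,3,5,8],0),
 ([3,7],1),
 ([3,8],1),
 ([3,10],1),
 ([4,5],1),
 ([4,7],1),
 ([4,8,4,8,10],0),
 ([4,10],1),
 ([5,7,5,7,10],0),
 ([5,8],1),
 ([5,10],1),
 ([7,8],1),
 ([7,10],1),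
 ([8,10],1),
 ([12,3],2),
 ([12,4],1),
 ([12,5],1),
 ([12,7,12,7,4],0),
 ([12,8,12,8,5],0),
 ([12,10],1),
 ([13],2),
 ([4,13],1),
 ([13,3,14,7],0),
 ([13,5,14,5],0),
 ([13,7,14,7,3],0),
 ([13,8,14,10],0),
 ([13,10,14,10,8],0),
 ([1],1),
 ([2],1),
 ([6],1),
 ([9],1),
 ([11],1)]
 [([13,14],0)])

noncomputable def c0_R : List (List ℕ × ℕ) := [([12,13,12,13,12,13,5],0)]

noncomputable def c0_h : ℕ := (nat_lit 0xa0000000000000000000007000000000000002d000002000000001b000002000000002d00001b000000001d0000010000000026000002000000002a00001700000000160000300003000016000032000c0000320000320000000033000032000d000023000033000c000032000033000e000020000032000c00002a0000300008000020000030000e00002d000007000800001b00002d000a00002600002d000300002a000017000500002600002a000800001700002a0003000026000026000400002600001d000e0000120000260008000002000026000e000023000020000c00000f00002300050000150000230007000015000020000c0000020000200004000015000020000e00001d00001b000800001200001d000a00001100001d000400001200001b000a00000200001b0005000017000002000d00001700000f000d00000a000017000c000016000017000e000015000016000c0000010000150007000012000012000e00000b000012000a0000010000120008000001000011000e00000a00000f000500000100000f000700000b00000b000300000b00000b000800000700000b000a00000600000b000500000000000a00070000070000070003000007000007000a000000000007000800000000000600070000020000020004000002000001000d000000000002000e000001000002000e000000000001)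

noncomputable def c0_c : List ℕ := [(nat_lit 0xc7000087000055013a030000c90000d10036020000c70000930000cd012a030000cb0000c700008300006700006100008d000e060000000000000000bf0000830000670000a501160400000000001b0000090000690000b50180040000b300009700006900da030000000000a50000ab0000a30000a9004e040000a700006500009500ba0300000000009b00004f000099013a0300007900006f00009901340300009700000700004501700300000000008300000b00001800000100003900008d000c0600008b00005300003900f20300000000008300001300008100007f01060400007f00005300000f00ea0300000000006b00000700004500007501800400007300004300004500da0300000000006b00000d000045009e0300000000000b00002500005d01480300003f00005d012a0200005b00005700005300000300001800002500160600000000000000000000004b00003700003300004901600400004700000300001500002901820400000000000000003b000003000025014c0300000000002f00002300002d00ca0300002f00001f00002d006a0300002b00001700001900da0300000000000000001b00000e00001900d20300001b00000600001900720300000000000000000b000006000009013803000003000008000009012e03000007000003012a02000000000000000037),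
 (nat_lit 0x190000f90032020000090000f70000b901a6030000f30000ef0000020000070000eb00007901a60300006b0000e70000b100320300000f0000e700009d0022030000670000e30000ab00260300005b0000dd0000c30036030000c30000ad00005b0000d90000d70000db00e406000009)]

theorem c0_b : goalB 1 (fun _ p => p) iv (allCodes iv (c0_R ++ R)) (fun t => look c0_h 64 t, c0_c) 0 [([10],1,(nat_lit 0xfd))] (msk [3,4,7,12]) = true := by decide +kernel

theorem c0 : Mem.{u} iv (c0_R ++ R) ([3,4,7,12].map fun x => [x]) [[10]] := mem_of_goalB c0_b

end Cfsg.Lib.Comp.HdLc
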